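import Cfsg.Agent.H161.DPi.ExclCore
import Cfsg.Agent.S4350

/-!
# S4247, task EXCL (exact statement)
-/

set_option autoImplicit false

namespace Cfsg.Agent.H161.DPi.Excl

open Subgroup Cfsg Cfsg.Agent.H988.CPi Cfsg.Agent.H571.RV Cfsg.Agent.H817.DPi

universe u

variable {π : Set ℕ}

/-- Task EXCL -/
theorem excl {X : Type u} [Group X] [Finite X] [IsSimpleGroup X] (_hna : ¬ IsMulCommutative X) (h2 : 2 ∉ π) {p : ℕ}
    (hp : p.Prime) (hpπ : p ∉ π) (hX : IsLieTypeChar p X) (h : Cls π X) :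
    (∀ P : Subgroup X, IsPiHall π P → Group.IsNilpotent P) ∨
      Nonempty (X ≃* Matrix.ProjectiveSpecialLinearGroup (Fin 3) (ZMod 2)) ∨
      Nonempty (X ≃* Matrix.ProjectiveSpecialLinearGroup (Fin 5) (ZMod 2)) :=
  excl_of_conj h2 (fun H K hH hK => S4350.result π h2 H K hH hK) hp hpπ hX h

end Cfsg.Agent.H161.DPi.Excl
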